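import Groth.Agent.L20.Stage.Loc
import Groth.Agent.S1265
import Groth.Agent.S0396
import Mathlib.RingTheory.AdicCompletion.Basic
import Mathlib.RingTheory.Filtration

/-!
# The flattening ideal over a complete Noetherian local ring
-/

set_option autoImplicit false
set_option linter.style.haveILetI false
set_option backward.isDefEq.respectTransparency.types false
universe u

open TensorProduct IsLocalRing

noncomputable section

namespace Groth.L20.Stage

theorem flat_tensor_mono {R A' A'' X : Type u} [CommRing R] [CommRing A'] [CommRing A''] [Algebra R A']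
    [Algebra R A''] [Algebra A' A''] [IsScalarTower R A' A''] [AddCommGroup X] [Module R X]
    (h : Module.Flat A' (A' ⊗[R] X)) : Module.Flat A'' (A'' ⊗[R] X) := by
  haveI := h
  haveI : Module.Flat A'' (A'' ⊗[A'] (A' ⊗[R] X)) := inferInstance
  exact Module.Flat.of_linearEquiv (TensorProduct.AlgebraTensorModule.cancelBaseChange R A' A'' A'' X).symm

/-- Over an Artinian quotient, an ideal governs flatness of the base change. -/
theorem exists_ideal_artin {R : Type u} [CommRing R] (K : Ideal R) [IsArtinianRing (R ⧸ K)] (X : Type u)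
    [AddCommGroup X] [Module R X] :
    ∃ I : Ideal R, K ≤ I ∧ ∀ (A' : Type u) [CommRing A'] [Algebra R A'], K ≤ RingHom.ker (algebraMap R A') →
      (Module.Flat A' (A' ⊗[R] X) ↔ I ≤ RingHom.ker (algebraMap R A')) := by
  let A := R ⧸ K
  let N := A ⊗[R] X
  obtain ⟨I₀, hI₀⟩ := Groth.Agent.S1265.result (A := A) (B := A) N
  refine ⟨I₀.comap (Ideal.Quotient.mk K), fun x hx => ?_, fun A' _ _ hK => ?_⟩
  · rw [Ideal.mem_comap, Ideal.Quotient.eq_zero_iff_mem.mpr hx]
    exact zero_mem _
  letI : Algebra A A' := (Ideal.Quotient.lift K (algebraMap R A') fun a ha => hK ha).toAlgebra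
  haveI : IsScalarTower R A A' := IsScalarTower.of_algebraMap_eq fun a => rfl
  haveI : Algebra.IsPushout A A A' A' := ⟨IsBaseChange.ofEquiv (LinearEquiv.refl A A')⟩
  haveI : IsScalarTower A A' (A' ⊗[R] X) := TensorProduct.isScalarTower_left
  haveI : IsScalarTower R A (A' ⊗[R] X) := TensorProduct.isScalarTower_left
  have h0 : IsBaseChange A (TensorProduct.mk R A X 1) := TensorProduct.isBaseChange R X A
  have hf : IsBaseChange A' (h0.lift (TensorProduct.mk R A' X 1)) :=
    IsBaseChange.of_comp h0 (by rw [h0.lift_comp]; exact TensorProduct.isBaseChange R X A')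
  rw [hI₀ A' A' (A' ⊗[R] X) _ hf, Ideal.map_eq_bot_iff_le_ker]
  constructor
  · intro h x hx
    exact h hx
  · intro h y hy
    obtain ⟨x, rfl⟩ := Ideal.Quotient.mk_surjective y
    exact h (show x ∈ I₀.comap (Ideal.Quotient.mk K) from hy)

theorem isArtinian_quotient_pow {R : Type u} [CommRing R] [IsLocalRing R] [IsNoetherianRing R] (n : ℕ) :
    IsArtinianRing (R ⧸ maximalIdeal R ^ (n + 1)) := by
  haveI : Nontrivial (R ⧸ maximalIdeal R ^ (n + 1)) := Ideal.Quotient.nontrivial_iff.mpr fun h =>
    (maximalIdeal.isMaximal R).ne_top (top_le_iff.mp (h ▸ Ideal.pow_le_self n.succ_ne_zero))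
  haveI : IsLocalRing (R ⧸ maximalIdeal R ^ (n + 1)) :=
    IsLocalRing.of_surjective' (Ideal.Quotient.mk _) Ideal.Quotient.mk_surjective
  refine (isArtinianRing_iff_isNilpotent_maximalIdeal _).mpr ⟨n + 1, ?_⟩
  have h : maximalIdeal (R ⧸ maximalIdeal R ^ (n + 1)) ≤ (maximalIdeal R).map (Ideal.Quotient.mk _) := fun y hy => by
    obtain ⟨x, rfl⟩ := Ideal.Quotient.mk_surjective y
    exact Ideal.mem_map_of_mem _ ((mem_maximalIdeal x).mpr fun hu => (mem_maximalIdeal _).mp hy (hu.map _))
  refine bot_unique ((Ideal.pow_right_mono h _).trans ?_)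
  rw [← Ideal.map_pow, Ideal.map_quotient_self]

variable {R S M : Type u} [CommRing R] [IsLocalRing R] [IsNoetherianRing R] [CommRing S] [Algebra R S]
  [AddCommGroup M] [Module S M] [Module R M] [IsScalarTower R S M]

variable (R S M) in
/-- All stalks over the closed point have flat base change. -/
def FlatStalks (A' : Type u) [CommRing A'] [Algebra R A'] : Prop :=
  ∀ (q : Ideal S) [q.IsPrime], q.comap (algebraMap R S) = maximalIdeal R →
    Module.Flat A' (A' ⊗[R] LocalizedModule q.primeCompl M)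

variable (R S M) in
theorem exists_ideal_level (n : ℕ) :
    ∃ I : Ideal R, maximalIdeal R ^ (n + 1) ≤ I ∧ ∀ (A' : Type u) [CommRing A'] [Algebra R A'],
      maximalIdeal R ^ (n + 1) ≤ RingHom.ker (algebraMap R A') →
      (FlatStalks R S M A' ↔ I ≤ RingHom.ker (algebraMap R A')) := by
  haveI := isArtinian_quotient_pow (R := R) n
  choose I hKI hI using fun q : {q : PrimeSpectrum S // q.asIdeal.comap (algebraMap R S) = maximalIdeal R} =>
    exists_ideal_artin (maximalIdeal R ^ (n + 1)) (LocalizedModule q.1.asIdeal.primeCompl M)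
  refine ⟨maximalIdeal R ^ (n + 1) ⊔ ⨆ q, I q, le_sup_left, fun A' _ _ hK => ?_⟩
  constructor
  · intro h
    exact sup_le hK (iSup_le fun q => (hI q A' hK).mp (h q.1.asIdeal q.2))
  · intro h q _ hq
    exact (hI ⟨⟨q, inferInstance⟩, hq⟩ A' hK).mpr ((le_iSup I _).trans (le_sup_right.trans h))

set_option maxHeartbeats 1000000 in
/-- Flatness modulo all powers gives flatness of a stalk. -/
theorem flat_of_flat_powers [IsNoetherianRing S] [Module.Finite S M] (I : Ideal R) (hI : I ≤ maximalIdeal R)
    (q : Ideal S) [q.IsPrime] (hq : q.comap (algebraMap R S) = maximalIdeal R)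
    (h : ∀ (A' : Type u) [CommRing A'] [Algebra R A'], (∃ n : ℕ, I ⊔ maximalIdeal R ^ (n + 1) ≤ RingHom.ker (algebraMap R A')) →
      Module.Flat A' (A' ⊗[R] LocalizedModule q.primeCompl M)) :
    Module.Flat (R ⧸ I) ((R ⧸ I) ⊗[R] LocalizedModule q.primeCompl M) := by
  let Sq := Localization.AtPrime q
  let X := LocalizedModule q.primeCompl M
  let A := R ⧸ I
  let J : Ideal Sq := I.map (algebraMap R Sq)
  have hmax : (maximalIdeal Sq).comap (algebraMap R Sq) = maximalIdeal R := by
    rw [IsScalarTower.algebraMap_eq R S Sq, ← Ideal.comap_comap,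
      show (maximalIdeal Sq).comap (algebraMap S Sq) = q from Localization.AtPrime.under_maximalIdeal, hq]
  have hJ : J ≤ maximalIdeal Sq := Ideal.map_le_iff_le_comap.mpr (hI.trans hmax.ge)
  let S' := Sq ⧸ J
  haveI : Nontrivial S' := Ideal.Quotient.nontrivial_iff.mpr fun h =>
    (maximalIdeal.isMaximal Sq).ne_top (top_le_iff.mp (h ▸ hJ))
  haveI : IsLocalRing S' := IsLocalRing.of_surjective' (Ideal.Quotient.mk J) Ideal.Quotient.mk_surjective
  letI : Algebra A S' := (Ideal.quotientMap J (algebraMap R Sq) Ideal.le_comap_map).toAlgebra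
  haveI : IsScalarTower R A S' := IsScalarTower.of_algebraMap_eq fun r => rfl
  haveI : IsScalarTower R Sq X := IsScalarTower.of_algebraMap_smul fun r x => by
    rw [IsScalarTower.algebraMap_apply R S Sq, algebraMap_smul, algebraMap_smul]
  haveI : Module.Finite Sq X := Module.Finite.of_isLocalizedModule q.primeCompl
    (Rₚ := Sq) (LocalizedModule.mkLinearMap q.primeCompl M)
  let M' := X ⧸ (J • ⊤ : Submodule Sq X)
  letI : Module A M' := Module.compHom M' (algebraMap A S')
  haveI : IsScalarTower A S' M' := IsScalarTower.of_algebraMap_smul fun _ _ => rfl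
  haveI : IsScalarTower R A M' := IsScalarTower.of_algebraMap_smul fun r x => by
    obtain ⟨x, rfl⟩ := Submodule.Quotient.mk_surjective _ x
    show Ideal.Quotient.mk J (algebraMap R Sq r) • Submodule.Quotient.mk (p := (J • ⊤ : Submodule Sq X)) x = _
    rw [Module.Quotient.mk_smul_mk, algebraMap_smul]
    rfl
  haveI : Module.Finite S' M' := by
    haveI : IsScalarTower Sq S' M' := IsScalarTower.of_algebraMap_smul fun r x => by
      obtain ⟨x, rfl⟩ := Submodule.Quotient.mk_surjective (J • ⊤ : Submodule Sq X) x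
      show Ideal.Quotient.mk J r • Submodule.Quotient.mk (p := (J • ⊤ : Submodule Sq X)) x = _
      rw [Module.Quotient.mk_smul_mk, Submodule.Quotient.mk_smul]
    exact Module.Finite.of_restrictScalars_finite Sq S' M'
  have hJX : (J • ⊤ : Submodule Sq X).restrictScalars R = I • (⊤ : Submodule R X) :=
    (Ideal.smul_restrictScalars I (⊤ : Submodule Sq X)).trans (by rw [Submodule.restrictScalars_top])
  let m : X →ₗ[R] M' := (Submodule.mkQ (J • ⊤ : Submodule Sq X)).restrictScalars R
  have hb : IsBaseChange A m := by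
    let e₀ : A ⊗[R] X ≃ₗ[R] M' :=
      (TensorProduct.quotTensorEquivQuotSMul X I).trans
        ((Submodule.quotEquivOfEq _ _ hJX.symm).trans (Submodule.Quotient.restrictScalarsEquiv R _))
    exact IsBaseChange.of_equiv (e₀.extendScalarsOfSurjective Ideal.Quotient.mk_surjective) fun x => by
      show Submodule.Quotient.restrictScalarsEquiv R _ (Submodule.quotEquivOfEq _ _ hJX.symm
        (TensorProduct.quotTensorEquivQuotSMul X I ((1 : A) ⊗ₜ[R] x))) = m x
      rw [TensorProduct.quotTensorEquivQuotSMul_mk_one_tmul]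
      rfl
  haveI : Nontrivial A := Ideal.Quotient.nontrivial_iff.mpr fun h =>
    (maximalIdeal.isMaximal R).ne_top (top_le_iff.mp (h ▸ hI))
  haveI : IsLocalRing A := IsLocalRing.of_surjective' (Ideal.Quotient.mk I) Ideal.Quotient.mk_surjective
  have hpow : ∀ n : ℕ, 0 < n → Module.Flat (A ⧸ maximalIdeal A ^ n) ((A ⧸ maximalIdeal A ^ n) ⊗[A] M') := fun n hn => by
    obtain ⟨k, rfl⟩ := Nat.exists_eq_add_one.mpr hn
    let A' := A ⧸ maximalIdeal A ^ (k + 1)
    have hker : I ⊔ maximalIdeal R ^ (k + 1) ≤ RingHom.ker (algebraMap R A') := by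
      refine sup_le (fun x hx => ?_) ?_
      · show algebraMap R A' x = 0
        rw [IsScalarTower.algebraMap_apply R A A', show algebraMap R A x = 0 from Ideal.Quotient.eq_zero_iff_mem.mpr hx,
          map_zero]
      · intro x hx
        show Ideal.Quotient.mk _ (Ideal.Quotient.mk I x) = 0
        refine Ideal.Quotient.eq_zero_iff_mem.mpr ?_
        have h1 : Ideal.Quotient.mk I x ∈ (maximalIdeal R ^ (k + 1)).map (Ideal.Quotient.mk I) := Ideal.mem_map_of_mem _ hx
        rw [Ideal.map_pow] at h1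
        refine Ideal.pow_right_mono (Ideal.map_le_iff_le_comap.mpr ?_) _ h1
        exact (IsLocalRing.eq_maximalIdeal (Ideal.comap_isMaximal_of_surjective
          (K := maximalIdeal A) _ Ideal.Quotient.mk_surjective)).ge
    haveI := h A' ⟨k, hker⟩
    let e : A' ⊗[A] (A ⊗[R] X) ≃ₗ[A'] A' ⊗[R] X := TensorProduct.AlgebraTensorModule.cancelBaseChange R A A' A' X
    haveI : Module.Flat A' (A' ⊗[A] (A ⊗[R] X)) := Module.Flat.of_linearEquiv e
    exact Module.Flat.of_linearEquiv (hb.equiv.baseChange A A' _ _).symm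
  haveI : IsLocalHom (algebraMap R Sq) := ((local_hom_TFAE (algebraMap R Sq)).out 0 4 rfl rfl).mpr hmax
  haveI : IsLocalHom (Ideal.Quotient.mk J) := IsLocalHom.of_surjective _ Ideal.Quotient.mk_surjective
  have hle : (maximalIdeal A).map (algebraMap A S') ≤ maximalIdeal S' := by
    rw [Ideal.map_le_iff_le_comap]
    intro y hy
    obtain ⟨x, rfl⟩ := Ideal.Quotient.mk_surjective y
    show Ideal.Quotient.mk J (algebraMap R Sq x) ∈ maximalIdeal S'
    refine (mem_maximalIdeal _).mpr fun hu => (mem_maximalIdeal _).mp hy ?_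
    exact (isUnit_of_map_unit (algebraMap R Sq) x
      ((isUnit_map_iff (Ideal.Quotient.mk J) _).mp hu)).map _
  have hflat := Groth.Agent.S0396.result (R := A) (S := S') (M := M') (maximalIdeal A) hpow (maximalIdeal S') hle
  haveI : Module.Flat A M' := Groth.L20.RG.flat_of_forall_prime (S := S') fun Q _ =>
    Groth.L20.flat_localizedModule_of_le (fun x hx hxQ => (show x ∉ maximalIdeal S' from hx) (IsLocalRing.le_maximalIdeal (inferInstance : Q.IsPrime).ne_top hxQ)) hflat
  exact Module.Flat.of_linearEquiv hb.equiv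

variable (R S M) in
/-- **The flattening ideal.** -/
theorem exists_ideal_complete [IsAdicComplete (maximalIdeal R) R] [IsNoetherianRing S] [Module.Finite S M] :
    ∃ I : Ideal R, I ≤ maximalIdeal R ∧ FlatStalks R S M (R ⧸ I) ∧
      ∀ J : Ideal R, J ≤ maximalIdeal R → FlatStalks R S M (R ⧸ J) → I ≤ J := by
  choose I hpI hI using exists_ideal_level R S M
  have hanti : ∀ n k, k ≤ n → I n ⊔ maximalIdeal R ^ (k + 1) = I k := fun n k hkn => by
    have hp : maximalIdeal R ^ (n + 1) ≤ maximalIdeal R ^ (k + 1) := Ideal.pow_le_pow_right (Nat.succ_le_succ hkn)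
    refine le_antisymm (sup_le ?_ (hpI k)) ?_
    · refine le_trans ((hI n (R ⧸ I k) (le_trans (hp.trans (hpI k)) Ideal.mk_ker.ge)).mp ?_) Ideal.mk_ker.le
      exact (hI k (R ⧸ I k) ((hpI k).trans Ideal.mk_ker.ge)).mpr Ideal.mk_ker.ge
    · refine le_trans ((hI k (R ⧸ (I n ⊔ maximalIdeal R ^ (k + 1))) (le_sup_right.trans Ideal.mk_ker.ge)).mp ?_) Ideal.mk_ker.le
      exact (hI n _ ((hp.trans le_sup_right).trans Ideal.mk_ker.ge)).mpr (le_sup_left.trans Ideal.mk_ker.ge)
  have hmono : ∀ n k, k ≤ n → I n ≤ I k := fun n k h => le_sup_left.trans (hanti n k h).le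
  have hI0 : I 0 ≤ maximalIdeal R := by
    refine le_trans ((hI 0 (R ⧸ maximalIdeal R) ?_).mp ?_) Ideal.mk_ker.le
    · rw [zero_add, pow_one]; exact Ideal.mk_ker.ge
    · intro q _ _
      letI := Ideal.Quotient.field (maximalIdeal R)
      infer_instance
  refine ⟨⨅ n, I n, (iInf_le I 0).trans hI0, fun q _ hq => ?_, fun J hJm hJ => ?_⟩
  · have hlim : ∀ n, I n ≤ (⨅ n, I n) ⊔ maximalIdeal R ^ (n + 1) := fun n x hx => by
      have hstep : ∀ (k : ℕ) (y : R), y ∈ I k → ∃ y', y' ∈ I (k + 1) ∧ y - y' ∈ maximalIdeal R ^ (k + 1) := fun k y hy => by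
        rw [← hanti (k + 1) k k.le_succ] at hy
        obtain ⟨a, ha, b, hb, rfl⟩ := Submodule.mem_sup.mp hy
        exact ⟨a, ha, by rw [add_sub_cancel_left]; exact hb⟩
      choose! next hnext hdiff using hstep
      let xs : ℕ → R := fun j => Nat.rec x (fun j r => next (n + j) r) j
      have hxs : ∀ j, xs j ∈ I (n + j) := fun j => by
        induction j with
        | zero => exact hx
        | succ j ih => exact hnext _ _ ih
      let f : ℕ → R := fun m => xs (m - (n + 1))
      have hsucc : ∀ j, xs j - xs (j + 1) ∈ maximalIdeal R ^ (n + j + 1) := fun j => hdiff _ _ (hxs j)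
      have hd : ∀ j l, j ≤ l → xs j - xs l ∈ maximalIdeal R ^ (n + j + 1) := fun j l h => by
        induction l, h using Nat.le_induction with
        | base => rw [sub_self]; exact zero_mem _
        | succ l hjl ih =>
          rw [← sub_add_sub_cancel (xs j) (xs l) (xs (l + 1))]
          exact add_mem ih (Ideal.pow_le_pow_right (by omega) (hsucc l))
      have hcauchy : ∀ {a b : ℕ}, a ≤ b →
          f a ≡ f b [SMOD (maximalIdeal R ^ a • ⊤ : Submodule R R)] := fun {a b} hab => by
        rw [SModEq.sub_mem, smul_eq_mul, Ideal.mul_top]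
        exact Ideal.pow_le_pow_right (by omega) (hd (a - (n + 1)) (b - (n + 1)) (by omega))
      obtain ⟨L, hL⟩ := IsPrecomplete.prec (inferInstance : IsPrecomplete (maximalIdeal R) R) hcauchy
      have hL' : ∀ m, f m - L ∈ maximalIdeal R ^ m := fun m => by
        have h' := hL m
        rwa [SModEq.sub_mem, smul_eq_mul, Ideal.mul_top] at h'
      have hLmem : L ∈ ⨅ n, I n := by
        rw [Submodule.mem_iInf]
        intro j
        let m := n + j + 1
        have h1 : f m ∈ I j := by
          refine hmono (n + (m - (n + 1))) j (by omega) (hxs _)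
        have h2 : f m - L ∈ I j := hpI j (Ideal.pow_le_pow_right (by omega) (hL' m))
        have := (I j).sub_mem h1 h2
        rwa [sub_sub_cancel] at this
      have hx0 : x - L ∈ maximalIdeal R ^ (n + 1) := by
        have : f (n + 1) = x := by simp [f, xs]
        exact this ▸ hL' (n + 1)
      rw [← add_sub_cancel L x]
      exact Submodule.add_mem_sup hLmem hx0
    refine flat_of_flat_powers _ ((iInf_le I 0).trans hI0) q hq fun A' _ _ ⟨n, hn⟩ => ?_
    exact (hI n A' (le_sup_right.trans hn)).mpr ((hlim n).trans hn) q hq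
  · have hJn : ∀ n, I n ≤ J ⊔ maximalIdeal R ^ (n + 1) := fun n => by
      let A'' := R ⧸ (J ⊔ maximalIdeal R ^ (n + 1))
      letI : Algebra (R ⧸ J) A'' := (Ideal.Quotient.factor (le_sup_left : J ≤ J ⊔ maximalIdeal R ^ (n + 1))).toAlgebra
      haveI : IsScalarTower R (R ⧸ J) A'' := IsScalarTower.of_algebraMap_eq fun r => rfl
      exact le_trans ((hI n A'' (le_sup_right.trans Ideal.mk_ker.ge)).mp
        fun q _ hq => flat_tensor_mono (hJ q hq)) Ideal.mk_ker.le
    intro x hx
    haveI : Nontrivial (R ⧸ J) := Ideal.Quotient.nontrivial_iff.mpr fun h =>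
      (maximalIdeal.isMaximal R).ne_top (top_le_iff.mp (h ▸ hJm))
    haveI : IsLocalRing (R ⧸ J) := IsLocalRing.of_surjective' (Ideal.Quotient.mk J) Ideal.Quotient.mk_surjective
    rw [← Ideal.Quotient.eq_zero_iff_mem]
    have : Ideal.Quotient.mk J x ∈ ⨅ n : ℕ, maximalIdeal (R ⧸ J) ^ n := by
      rw [Submodule.mem_iInf]
      intro n
      have h1 : Ideal.Quotient.mk J x ∈ (J ⊔ maximalIdeal R ^ (n + 1)).map (Ideal.Quotient.mk J) :=
        Ideal.mem_map_of_mem _ (hJn n ((Submodule.mem_iInf _).mp hx n))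
      rw [Ideal.map_sup, Ideal.map_quotient_self, bot_sup_eq, Ideal.map_pow] at h1
      refine Ideal.pow_le_pow_right n.le_succ (Ideal.pow_right_mono (Ideal.map_le_iff_le_comap.mpr ?_) _ h1)
      exact (IsLocalRing.eq_maximalIdeal (Ideal.comap_isMaximal_of_surjective
        (K := maximalIdeal (R ⧸ J)) _ Ideal.Quotient.mk_surjective)).ge
    rwa [Ideal.iInf_pow_eq_bot_of_isLocalRing _ (maximalIdeal.isMaximal _).ne_top] at this

end Groth.L20.Stage
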