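import Groth.Agent.L20.Stage.Away
import Groth.Agent.L03.ColimTensor

/-!
# Tensor products with a directed colimit, and stage descent of flatness
-/

set_option autoImplicit false
set_option linter.style.haveILetI false
set_option backward.isDefEq.respectTransparency.types false
universe u

open TensorProduct

noncomputable section

namespace Groth.L20.Stage

attribute [local instance] Algebra.TensorProduct.rightAlgebra

variable {R : Type u} [CommRing R] {ι : Type u} [Preorder ι] {G : ι → Type u} [∀ i, CommRing (G i)]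
  [∀ i, Algebra R (G i)] (g : ∀ i j, i ≤ j → G i →+* G j)
  (hgR : ∀ i j (h : i ≤ j), (g i j h).comp (algebraMap R (G i)) = algebraMap R (G j))
  {R' : Type u} [CommRing R'] [Algebra R R'] [∀ i, Algebra (G i) R'] [∀ i, IsScalarTower R (G i) R']

/-- The transition map as an algebra map. -/
def trans (i j : ι) (h : i ≤ j) : G i →ₐ[R] G j :=
  { g i j h with commutes' := fun r => RingHom.congr_fun (hgR i j h) r }

/-- The map to the colimit as an algebra map. -/
def toLim (i : ι) : G i →ₐ[R] R' := IsScalarTower.toAlgHom R (G i) R'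

variable (hcolim : FlatCA.IsDirectedColimitRing G g R') (M : Type u) [AddCommGroup M] [Module R M]

include hgR hcolim in
theorem isColim : Groth.L03.SmoothStage.IsColim (B := R) G (fun i => toLim (R := R) (R' := R') i) := by
  obtain ⟨hdir, hne, hid, hcomp, hA, hex, hzero⟩ := hcolim
  have htr : ∀ i j (h : i ≤ j), (toLim (R := R) (R' := R') j).comp (trans g hgR i j h) = toLim i :=
    fun i j h => AlgHom.ext fun x => RingHom.congr_fun (hA i j h) x
  refine ⟨hne, fun i j => ?_, hex, fun i x hx => ?_⟩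
  · obtain ⟨k, hik, hjk⟩ := hdir.directed i j
    exact ⟨k, trans g hgR i k hik, trans g hgR j k hjk, htr _ _ hik, htr _ _ hjk⟩
  · obtain ⟨j, h, hj⟩ := hzero i x hx
    exact ⟨j, trans g hgR i j h, htr _ _ h, hj⟩

include hgR hcolim in
theorem exists_tensor_lift {κ : Type} [Finite κ] (a : κ → M ⊗[R] R') :
    ∃ i, ∀ x, ∃ z : M ⊗[R] G i, (toLim (R := R) (R' := R') i).toLinearMap.lTensor M z = a x :=
  Groth.L03.ColimTensor.exists_lift (isColim g hgR hcolim) M a

include hcolim in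
theorem exists_tensor_kill (i : ι) (z : M ⊗[R] G i) (hz : (toLim (R := R) (R' := R') i).toLinearMap.lTensor M z = 0) :
    ∃ k, ∃ h : i ≤ k, (trans g hgR i k h).toLinearMap.lTensor M z = 0 := by
  classical
  obtain ⟨k, φ, hφ, hk⟩ := Groth.L03.ColimTensor.exists_kill_one (isColim g hgR hcolim) M i z hz
  obtain ⟨hdir, hne, hid, hcomp, hA, hex, hzero⟩ := hcolim
  obtain ⟨l₀, hil₀, hkl₀⟩ := hdir.directed i k
  obtain ⟨T, hT⟩ := TensorProduct.exists_finset z
  have hev : ∀ x : G i, ∃ l, ∃ hl : l₀ ≤ l, g k l (hkl₀.trans hl) (φ x) = g i l (hil₀.trans hl) x := fun x => by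
    obtain ⟨l, hl, h0⟩ := hzero l₀ (g k l₀ hkl₀ (φ x) - g i l₀ hil₀ x) (by
      rw [map_sub, ← RingHom.comp_apply, hA, ← RingHom.comp_apply, hA]
      have h1 : algebraMap (G k) R' (φ x) = algebraMap (G i) R' x := AlgHom.congr_fun hφ x
      rw [h1, sub_self])
    refine ⟨l, hl, ?_⟩
    rwa [map_sub, sub_eq_zero, ← RingHom.comp_apply, hcomp, ← RingHom.comp_apply, hcomp] at h0
  choose l hl hle using hev
  haveI := hne
  haveI := hdir
  obtain ⟨m, hm⟩ := Finset.exists_le (insert l₀ (T.image fun t => l t.2))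
  have hlm : l₀ ≤ m := hm _ (Finset.mem_insert_self _ _)
  refine ⟨m, hil₀.trans hlm, ?_⟩
  have h1 : (trans g hgR i m (hil₀.trans hlm)).toLinearMap.lTensor M z =
      (trans g hgR k m (hkl₀.trans hlm)).toLinearMap.lTensor M (φ.toLinearMap.lTensor M z) := by
    rw [hT, map_sum, map_sum, map_sum]
    refine Finset.sum_congr rfl fun t ht => ?_
    simp only [LinearMap.lTensor_tmul, AlgHom.toLinearMap_apply]
    congr 1
    show g i m _ t.2 = g k m _ (φ t.2)
    have hlt : l t.2 ≤ m := hm _ (Finset.mem_insert_of_mem (Finset.mem_image_of_mem _ ht))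
    have := congrArg (g (l t.2) m hlt) (hle t.2)
    rw [← RingHom.comp_apply, hcomp, ← RingHom.comp_apply, hcomp] at this
    exact this.symm
  rw [h1, hk, map_zero]

section Flat

variable (S₀ : Type u) [CommRing S₀] [Algebra R S₀]

/-- The map of tensor products along an algebra map. -/
abbrev tmap {C C' : Type u} [CommRing C] [CommRing C'] [Algebra R C] [Algebra R C'] (φ : C →ₐ[R] C') :
    S₀ ⊗[R] C →ₐ[S₀] S₀ ⊗[R] C' := Algebra.TensorProduct.map (AlgHom.id S₀ S₀) φ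

theorem isPushout_tmap {C C' : Type u} [CommRing C] [CommRing C'] [Algebra R C] [Algebra R C'] [Algebra C C']
    [IsScalarTower R C C'] :
    letI := (tmap S₀ (IsScalarTower.toAlgHom R C C')).toRingHom.toAlgebra
    letI : Algebra C (S₀ ⊗[R] C') := ((algebraMap C' (S₀ ⊗[R] C')).comp (algebraMap C C')).toAlgebra
    IsScalarTower C (S₀ ⊗[R] C) (S₀ ⊗[R] C') ∧ IsScalarTower S₀ (S₀ ⊗[R] C) (S₀ ⊗[R] C') ∧
      ∀ [IsScalarTower C (S₀ ⊗[R] C) (S₀ ⊗[R] C')] [IsScalarTower C C' (S₀ ⊗[R] C')],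
        Algebra.IsPushout C C' (S₀ ⊗[R] C) (S₀ ⊗[R] C') := by
  letI := (tmap S₀ (IsScalarTower.toAlgHom R C C')).toRingHom.toAlgebra
  letI : Algebra C (S₀ ⊗[R] C') := ((algebraMap C' (S₀ ⊗[R] C')).comp (algebraMap C C')).toAlgebra
  have h1 : IsScalarTower C (S₀ ⊗[R] C) (S₀ ⊗[R] C') := IsScalarTower.of_algebraMap_eq fun c => by
    show (1 : S₀) ⊗ₜ[R] algebraMap C C' c = tmap S₀ (IsScalarTower.toAlgHom R C C') ((1 : S₀) ⊗ₜ[R] c)
    rw [Algebra.TensorProduct.map_tmul]; rfl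
  have h2 : IsScalarTower S₀ (S₀ ⊗[R] C) (S₀ ⊗[R] C') :=
    IsScalarTower.of_algebraMap_eq' (tmap S₀ (IsScalarTower.toAlgHom R C C')).comp_algebraMap.symm
  refine ⟨h1, h2, ?_⟩
  intro _ _
  haveI := h1
  haveI := h2
  haveI : IsScalarTower R C (S₀ ⊗[R] C') := IsScalarTower.of_algebraMap_eq fun r => by
    rw [IsScalarTower.algebraMap_apply C C' (S₀ ⊗[R] C'), ← IsScalarTower.algebraMap_apply R C C',
      ← IsScalarTower.algebraMap_apply R C' (S₀ ⊗[R] C')]
  haveI : IsScalarTower R (S₀ ⊗[R] C) (S₀ ⊗[R] C') := IsScalarTower.of_algebraMap_eq fun r => by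
    rw [IsScalarTower.algebraMap_apply R C (S₀ ⊗[R] C'), IsScalarTower.algebraMap_apply C (S₀ ⊗[R] C) (S₀ ⊗[R] C'),
      ← IsScalarTower.algebraMap_apply R C (S₀ ⊗[R] C)]
  haveI : Algebra.IsPushout R C S₀ (S₀ ⊗[R] C) := Algebra.IsPushout.symm inferInstance
  have hpush : Algebra.IsPushout R C' S₀ (S₀ ⊗[R] C') := Algebra.IsPushout.symm inferInstance
  exact (Algebra.IsPushout.comp_iff R C S₀ (S₀ ⊗[R] C) (T := C') (T' := S₀ ⊗[R] C')).mp hpush

variable [Algebra.FinitePresentation R S₀] (M₀ : Type u) [AddCommGroup M₀] [Module S₀ M₀]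
  [Module.FinitePresentation S₀ M₀]

set_option maxHeartbeats 1000000 in
include hgR hcolim in
/-- Flatness on a basic open of `S₀ ⊗ R'` descends to a stage. -/
theorem exists_flat_stage_tensor (i₀ : ι) (z : S₀ ⊗[R] G i₀)
    (h : ∀ (Q : Ideal (S₀ ⊗[R] R')) [Q.IsPrime], tmap S₀ (toLim (R := R) (R' := R') i₀) z ∉ Q →
      Module.Flat R' (LocalizedModule Q.primeCompl ((S₀ ⊗[R] R') ⊗[S₀] M₀))) :
    ∃ j, ∃ hj : i₀ ≤ j, ∀ k (hk : j ≤ k) (Q : Ideal (S₀ ⊗[R] G k)) [Q.IsPrime],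
      tmap S₀ (trans g hgR i₀ k (hj.trans hk)) z ∉ Q →
      Module.Flat (G k) (LocalizedModule Q.primeCompl ((S₀ ⊗[R] G k) ⊗[S₀] M₀)) := by
  let S₁ := S₀ ⊗[R] G i₀
  let N := S₁ ⊗[S₀] M₀
  haveI : Algebra.IsPushout R (G i₀) S₀ S₁ := Algebra.IsPushout.symm inferInstance
  haveI : Algebra.FinitePresentation (G i₀) S₁ :=
    Algebra.FinitePresentation.equiv (Algebra.IsPushout.equiv R (G i₀) S₀ S₁)
  haveI : Module.FinitePresentation S₁ N := inferInstance
  let ι' := {i : ι // i₀ ≤ i}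
  letI alg : ∀ k : ι', Algebra (G i₀) (G k.1) := fun k => (g i₀ k.1 k.2).toAlgebra
  haveI : ∀ k : ι', IsScalarTower R (G i₀) (G k.1) := fun k =>
    IsScalarTower.of_algebraMap_eq fun r => (RingHom.congr_fun (hgR i₀ k.1 k.2) r).symm
  obtain ⟨hdir, hne, hid, hcomp, hA, hex, hzero⟩ := hcolim
  haveI : ∀ k : ι', IsScalarTower (G i₀) (G k.1) R' := fun k =>
    IsScalarTower.of_algebraMap_eq fun x => (RingHom.congr_fun (hA i₀ k.1 k.2) x).symm
  have hcolim' : FlatCA.IsDirectedColimitRing (fun k : ι' => G k.1) (fun a b h => g a.1 b.1 h) R' := by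
    refine ⟨⟨fun a b => ?_⟩, ⟨⟨i₀, le_rfl⟩⟩, fun a => hid a.1, fun a b c hab hbc => hcomp _ _ _ hab hbc,
      fun a b h => hA _ _ h, fun x => ?_, fun a x hx => ?_⟩
    · obtain ⟨c, hac, hbc⟩ := hdir.directed a.1 b.1
      exact ⟨⟨c, a.2.trans hac⟩, hac, hbc⟩
    · obtain ⟨i, y, rfl⟩ := hex x
      obtain ⟨c, hic, h0c⟩ := hdir.directed i i₀
      exact ⟨⟨c, h0c⟩, g i c hic y, RingHom.congr_fun (hA i c hic) y⟩
    · obtain ⟨j, hj, h0⟩ := hzero a.1 x hx
      exact ⟨⟨j, a.2.trans hj⟩, hj, h0⟩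
  -- the model over the colimit
  let D' := S₀ ⊗[R] R'
  let W := D' ⊗[S₀] M₀
  letI := (tmap S₀ (IsScalarTower.toAlgHom R (G i₀) R')).toRingHom.toAlgebra
  letI : Algebra (G i₀) D' := ((algebraMap R' D').comp (algebraMap (G i₀) R')).toAlgebra
  haveI : IsScalarTower (G i₀) R' D' := IsScalarTower.of_algebraMap_eq' rfl
  obtain ⟨hs1, hs2, hp⟩ := isPushout_tmap (R := R) S₀ (C := G i₀) (C' := R')
  haveI := hs1
  haveI := hs2
  haveI := hp
  haveI : IsScalarTower S₁ D' W := TensorProduct.isScalarTower_left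
  haveI : IsScalarTower R' D' W := TensorProduct.isScalarTower_left
  haveI : IsScalarTower S₀ S₁ W := TensorProduct.isScalarTower_left
  have hN : IsBaseChange S₁ (TensorProduct.mk S₀ S₁ M₀ 1) := TensorProduct.isBaseChange S₀ M₀ S₁
  have hW : IsBaseChange D' (hN.lift (TensorProduct.mk S₀ D' M₀ 1)) :=
    IsBaseChange.of_comp hN (by rw [hN.lift_comp]; exact TensorProduct.isBaseChange S₀ M₀ D')
  obtain ⟨j, hj⟩ := exists_flat_stage_away (A := G i₀) (S := S₁) (N := N) z (G := fun k : ι' => G k.1)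
    (fun a b h => g a.1 b.1 h) (fun a b h => hcomp i₀ a.1 b.1 a.2 h) R' hcolim' _ hW (fun Q _ hQ => h Q hQ)
  refine ⟨j.1, j.2, fun k hk Q _ hQ => ?_⟩
  have hjk : j ≤ (⟨k, j.2.trans hk⟩ : ι') := hk
  let D := S₀ ⊗[R] G k
  let V := D ⊗[S₀] M₀
  letI algk : Algebra (G i₀) (G k) := alg ⟨k, j.2.trans hk⟩
  haveI : IsScalarTower R (G i₀) (G k) :=
    (inferInstance : IsScalarTower R (G i₀) (G (⟨k, j.2.trans hk⟩ : ι').1))
  letI := (tmap S₀ (IsScalarTower.toAlgHom R (G i₀) (G k))).toRingHom.toAlgebra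
  letI : Algebra (G i₀) D := ((algebraMap (G k) D).comp (algebraMap (G i₀) (G k))).toAlgebra
  haveI : IsScalarTower (G i₀) (G k) D := IsScalarTower.of_algebraMap_eq' rfl
  obtain ⟨hs1, hs2, hp⟩ := isPushout_tmap (R := R) S₀ (C := G i₀) (C' := G k)
  haveI := hs1
  haveI := hs2
  haveI := hp
  haveI : IsScalarTower S₁ D V := TensorProduct.isScalarTower_left
  haveI : IsScalarTower (G k) D V := TensorProduct.isScalarTower_left
  haveI : IsScalarTower S₀ S₁ V := TensorProduct.isScalarTower_left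
  have hV : IsBaseChange D (hN.lift (TensorProduct.mk S₀ D M₀ 1)) :=
    IsBaseChange.of_comp hN (by rw [hN.lift_comp]; exact TensorProduct.isBaseChange S₀ M₀ D)
  exact hj ⟨k, j.2.trans hk⟩ hjk D V _ hV Q hQ

end Flat

end Groth.L20.Stage
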