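import Groth.Agent.L20.Stage.Tensor

/-!
# Operations on directed colimits of rings

Base change, localisation at a prime, and restriction to the indices above a given one.
-/

set_option autoImplicit false
set_option linter.style.haveILetI false
set_option backward.isDefEq.respectTransparency.types false
universe u

open TensorProduct

noncomputable section

namespace Groth.L20.Stage

/-- A directed colimit of rings, restricted to the indices above a given one. -/
theorem colim_ge {ι : Type u} [Preorder ι] {G : ι → Type u} [∀ i, CommRing (G i)] {g : ∀ i j, i ≤ j → G i →+* G j}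
    {A : Type u} [CommRing A] [∀ i, Algebra (G i) A] (hcolim : FlatCA.IsDirectedColimitRing G g A) (i₀ : ι) :
    FlatCA.IsDirectedColimitRing (fun k : {i : ι // i₀ ≤ i} => G k.1) (fun a b h => g a.1 b.1 h) A := by
  obtain ⟨hdir, hne, hid, hcomp, hA, hex, hzero⟩ := hcolim
  refine ⟨⟨fun a b => ?_⟩, ⟨⟨i₀, le_rfl⟩⟩, fun a => hid a.1, fun a b c hab hbc => hcomp _ _ _ hab hbc,
    fun a b h => hA _ _ h, fun x => ?_, fun a x hx => ?_⟩
  · obtain ⟨c, hac, hbc⟩ := hdir.directed a.1 b.1
    exact ⟨⟨c, a.2.trans hac⟩, hac, hbc⟩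
  · obtain ⟨i, y, rfl⟩ := hex x
    obtain ⟨c, hic, h0c⟩ := hdir.directed i i₀
    exact ⟨⟨c, h0c⟩, g i c hic y, RingHom.congr_fun (hA i c hic) y⟩
  · obtain ⟨j, hj, h0⟩ := hzero a.1 x hx
    exact ⟨⟨j, a.2.trans hj⟩, hj, h0⟩

/-- Base change of a directed colimit of rings. -/
theorem colim_tensor {R : Type u} [CommRing R] {ι : Type u} [Preorder ι] {G : ι → Type u} [∀ i, CommRing (G i)]
    [∀ i, Algebra R (G i)] (g : ∀ i j, i ≤ j → G i →+* G j)
    (hgR : ∀ i j (h : i ≤ j), (g i j h).comp (algebraMap R (G i)) = algebraMap R (G j))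
    {A : Type u} [CommRing A] [Algebra R A] [∀ i, Algebra (G i) A] [∀ i, IsScalarTower R (G i) A]
    (hcolim : FlatCA.IsDirectedColimitRing G g A) (S : Type u) [CommRing S] [Algebra R S]
    [∀ i, Algebra (S ⊗[R] G i) (S ⊗[R] A)]
    (halg : ∀ i x, algebraMap (S ⊗[R] G i) (S ⊗[R] A) x = tmap S (toLim (R := R) (R' := A) i) x) :
    FlatCA.IsDirectedColimitRing (fun i => S ⊗[R] G i) (fun i j h => (tmap S (trans (R := R) g hgR i j h)).toRingHom)
      (S ⊗[R] A) := by
  have hcolim' := hcolim
  obtain ⟨hdir, hne, hid, hcomp, hA, -, -⟩ := hcolim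
  refine ⟨hdir, hne, fun i => RingHom.ext fun x => ?_, fun i j k hij hjk => RingHom.ext fun x => ?_,
    fun i j h => RingHom.ext fun x => ?_, fun a => ?_, fun i x hx => ?_⟩
  · induction x using TensorProduct.induction_on with
    | zero => simp
    | tmul s c => exact congrArg (s ⊗ₜ[R] ·) (RingHom.congr_fun (hid i) c)
    | add x y hx hy => simp only [map_add, hx, hy]
  · induction x using TensorProduct.induction_on with
    | zero => simp
    | tmul s c => exact congrArg (s ⊗ₜ[R] ·) (RingHom.congr_fun (hcomp i j k hij hjk) c)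
    | add x y hx hy => simp only [map_add, hx, hy]
  · show algebraMap (S ⊗[R] G j) (S ⊗[R] A) (tmap S (trans g hgR i j h) x) = algebraMap (S ⊗[R] G i) (S ⊗[R] A) x
    rw [halg, halg]
    induction x using TensorProduct.induction_on with
    | zero => simp
    | tmul s c => exact congrArg (s ⊗ₜ[R] ·) (RingHom.congr_fun (hA i j h) c)
    | add x y hx hy => simp only [map_add, hx, hy]
  · obtain ⟨i, hi⟩ := exists_tensor_lift g hgR hcolim' S (fun _ : Fin 1 => a)
    obtain ⟨z, hz⟩ := hi 0
    exact ⟨i, z, (halg i z).trans hz⟩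
  · exact exists_tensor_kill g hgR hcolim' S i x ((halg i x).symm.trans hx)

section AtPrime

variable {ι : Type u} [Preorder ι] {G : ι → Type u} [∀ i, CommRing (G i)] (g : ∀ i j, i ≤ j → G i →+* G j)
  {A : Type u} [CommRing A] [∀ i, Algebra (G i) A]

/-- The indices of the localisation at a prime of a directed colimit. -/
structure LocIdx (p : Ideal A) where
  /-- The stage. -/
  i : ι
  /-- The element to invert. -/
  f : G i
  notMem : algebraMap (G i) A f ∉ p

/-- The rings of the localised system. -/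
abbrev LocRing {p : Ideal A} (x : LocIdx (G := G) p) : Type u := Localization.Away x.f

/-- The map from a stage to the localisation at the prime. -/
theorem isUnit_locIdx {p : Ideal A} [p.IsPrime] (x : LocIdx (G := G) p) :
    IsUnit (((algebraMap A (Localization.AtPrime p)).comp (algebraMap (G x.i) A)) x.f) :=
  IsLocalization.map_units (Localization.AtPrime p) (⟨_, x.notMem⟩ : p.primeCompl)

/-- The map to the localisation at the prime. -/
def locLim {p : Ideal A} [p.IsPrime] (x : LocIdx (G := G) p) : LocRing x →+* Localization.AtPrime p :=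
  IsLocalization.Away.lift (S := LocRing x) x.f (isUnit_locIdx x)

theorem locLim_algebraMap {p : Ideal A} [p.IsPrime] (x : LocIdx (G := G) p) (a : G x.i) :
    locLim x (algebraMap (G x.i) (LocRing x) a) = algebraMap A (Localization.AtPrime p) (algebraMap (G x.i) A a) :=
  IsLocalization.Away.lift_eq x.f (isUnit_locIdx x) a

/-- The localisation at a prime of a directed colimit of rings, as the colimit of principal localisations of the
stages. -/
theorem exists_colim_atPrime (hcolim : FlatCA.IsDirectedColimitRing G g A) (p : Ideal A) [p.IsPrime] :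
    ∃ (_ : Preorder (LocIdx (G := G) p)) (h : ∀ x y : LocIdx (G := G) p, x ≤ y → LocRing x →+* LocRing y)
      (hle : ∀ x y : LocIdx (G := G) p, x ≤ y → x.i ≤ y.i),
      (∀ x y (hxy : x ≤ y) (a : G x.i),
        h x y hxy (algebraMap (G x.i) (LocRing x) a) = algebraMap (G y.i) (LocRing y) (g _ _ (hle x y hxy) a)) ∧
      (letI := fun x : LocIdx (G := G) p => (locLim x).toAlgebra
      FlatCA.IsDirectedColimitRing (fun x => LocRing x) h (Localization.AtPrime p)) := by
  obtain ⟨hdir, hne, hid, hcomp, hA, hex, hzero⟩ := hcolim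
  letI inst : Preorder (LocIdx (G := G) p) :=
    { le := fun x y => ∃ h : x.i ≤ y.i, IsUnit (algebraMap (G y.i) (LocRing y) (g _ _ h x.f))
      le_refl := fun x => ⟨le_rfl, by rw [hid]; exact IsLocalization.Away.algebraMap_isUnit x.f⟩
      le_trans := fun x y z ⟨h₁, u₁⟩ ⟨h₂, u₂⟩ => ⟨h₁.trans h₂, by
        let φ : LocRing y →+* LocRing z :=
          IsLocalization.Away.lift (S := LocRing y) y.f (g := (algebraMap (G z.i) (LocRing z)).comp (g _ _ h₂)) u₂
        have := u₁.map φ
        rw [show φ (algebraMap (G y.i) (LocRing y) (g _ _ h₁ x.f)) = algebraMap (G z.i) (LocRing z) (g _ _ h₂ (g _ _ h₁ x.f))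
          from IsLocalization.Away.lift_eq y.f u₂ _, ← RingHom.comp_apply (g _ _ h₂), hcomp] at this
        exact this⟩ }
  let h : ∀ x y : LocIdx (G := G) p, x ≤ y → LocRing x →+* LocRing y := fun x y hxy =>
    IsLocalization.Away.lift (S := LocRing x) x.f (g := (algebraMap (G y.i) (LocRing y)).comp (g _ _ hxy.1)) hxy.2
  have heq : ∀ x y (hxy : x ≤ y) (a : G x.i),
      h x y hxy (algebraMap (G x.i) (LocRing x) a) = algebraMap (G y.i) (LocRing y) (g _ _ hxy.1 a) :=
    fun x y hxy a => IsLocalization.Away.lift_eq x.f hxy.2 a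
  refine ⟨inst, h, fun x y hxy => hxy.1, heq, ?_⟩
  letI := fun x : LocIdx (G := G) p => (locLim x).toAlgebra
  have hone : ∀ k, algebraMap (G k) A 1 ∉ p := fun k => by
    rw [map_one]
    exact Ideal.IsPrime.one_notMem inferInstance
  haveI := hdir
  refine ⟨⟨fun x y => ?_⟩, ?_, fun x => ?_, fun x y z hxy hyz => ?_, fun x y hxy => ?_, fun a => ?_, fun x a ha => ?_⟩
  · obtain ⟨k, hxk, hyk⟩ := hdir.directed x.i y.i
    refine ⟨⟨k, g _ _ hxk x.f * g _ _ hyk y.f, ?_⟩, ⟨hxk, ?_⟩, ⟨hyk, ?_⟩⟩
    · rw [map_mul, ← RingHom.comp_apply (algebraMap (G k) A), ← RingHom.comp_apply (algebraMap (G k) A), hA, hA]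
      exact fun hm => (Ideal.IsPrime.mem_or_mem inferInstance hm).elim x.notMem y.notMem
    all_goals
      have hu := IsLocalization.Away.algebraMap_isUnit (S := Localization.Away (g _ _ hxk x.f * g _ _ hyk y.f))
        (g _ _ hxk x.f * g _ _ hyk y.f)
      rw [map_mul] at hu
    · exact (IsUnit.mul_iff.mp hu).1
    · exact (IsUnit.mul_iff.mp hu).2
  · obtain ⟨i⟩ := hne
    exact ⟨⟨i, 1, hone i⟩⟩
  · refine IsLocalization.ringHom_ext (Submonoid.powers x.f) (RingHom.ext fun a => ?_)
    show h x x le_rfl (algebraMap (G x.i) (LocRing x) a) = algebraMap (G x.i) (LocRing x) a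
    exact (heq x x le_rfl a).trans (by rw [hid]; rfl)
  · refine IsLocalization.ringHom_ext (Submonoid.powers x.f) (RingHom.ext fun a => ?_)
    show h y z hyz (h x y hxy (algebraMap (G x.i) (LocRing x) a)) = h x z (hxy.trans hyz) (algebraMap (G x.i) (LocRing x) a)
    rw [heq x y hxy, heq y z hyz, heq x z (hxy.trans hyz), ← RingHom.comp_apply (g _ _ hyz.1), hcomp]
  · refine IsLocalization.ringHom_ext (Submonoid.powers x.f) (RingHom.ext fun a => ?_)
    show locLim y (h x y hxy (algebraMap (G x.i) (LocRing x) a)) = locLim x (algebraMap (G x.i) (LocRing x) a)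
    rw [heq x y hxy, locLim_algebraMap, locLim_algebraMap, ← RingHom.comp_apply (algebraMap (G y.i) A), hA]
  · obtain ⟨⟨a, s⟩, hs⟩ := IsLocalization.surj p.primeCompl a
    obtain ⟨i, a', ha'⟩ := hex a
    obtain ⟨j, s', hs'⟩ := hex s
    obtain ⟨k, hik, hjk⟩ := hdir.directed i j
    let x : LocIdx (G := G) p := ⟨k, g j k hjk s', by
      rw [← RingHom.comp_apply (algebraMap (G k) A), hA, hs']; exact s.2⟩
    refine ⟨x, algebraMap (G k) (LocRing x) (g i k hik a') * IsLocalization.Away.invSelf x.f, ?_⟩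
    show locLim x _ = _
    have hinv : locLim x (algebraMap (G k) (LocRing x) x.f) * locLim x (IsLocalization.Away.invSelf x.f) = 1 := by
      rw [← map_mul, IsLocalization.Away.mul_invSelf, map_one]
    rw [locLim_algebraMap] at hinv
    rw [show algebraMap (G k) A x.f = (s : A) from by
      show algebraMap (G k) A (g j k hjk s') = _
      rw [← RingHom.comp_apply (algebraMap (G k) A), hA, hs']] at hinv
    rw [map_mul, locLim_algebraMap, ← RingHom.comp_apply (algebraMap (G k) A), hA, ha', ← hs, mul_assoc, hinv, mul_one]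
  · obtain ⟨⟨b, ⟨_, n, rfl⟩⟩, hb⟩ := IsLocalization.surj (Submonoid.powers x.f) a
    have h0 : algebraMap A (Localization.AtPrime p) (algebraMap (G x.i) A b) = 0 := by
      rw [← locLim_algebraMap]
      show locLim x _ = 0
      rw [← hb, map_mul, show locLim x a = 0 from ha, zero_mul]
    obtain ⟨⟨s, hs⟩, hsb⟩ := (IsLocalization.map_eq_zero_iff p.primeCompl _ _).mp h0
    obtain ⟨j, s', rfl⟩ := hex s
    obtain ⟨k, hxk, hjk⟩ := hdir.directed x.i j
    obtain ⟨l, hkl, hl⟩ := hzero k (g j k hjk s' * g x.i k hxk b) (by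
      rw [map_mul, ← RingHom.comp_apply (algebraMap (G k) A), ← RingHom.comp_apply (algebraMap (G k) A), hA, hA]
      exact hsb)
    rw [map_mul, ← RingHom.comp_apply, ← RingHom.comp_apply, hcomp, hcomp] at hl
    let y : LocIdx (G := G) p := ⟨l, g x.i l (hxk.trans hkl) x.f * g j l (hjk.trans hkl) s', by
      rw [map_mul, ← RingHom.comp_apply (algebraMap (G l) A), ← RingHom.comp_apply (algebraMap (G l) A), hA, hA]
      exact fun hm => (Ideal.IsPrime.mem_or_mem inferInstance hm).elim x.notMem hs⟩
    have hu := IsLocalization.Away.algebraMap_isUnit (S := LocRing y) y.f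
    rw [map_mul] at hu
    refine ⟨y, ⟨hxk.trans hkl, (IsUnit.mul_iff.mp hu).1⟩, ?_⟩
    have h1 := congrArg (algebraMap (G l) (LocRing y)) hl
    rw [map_mul, map_zero, (IsUnit.mul_iff.mp hu).2.mul_right_eq_zero] at h1
    have h2 := congrArg (h x y ⟨hxk.trans hkl, (IsUnit.mul_iff.mp hu).1⟩) hb
    rw [map_mul, heq x y ⟨hxk.trans hkl, (IsUnit.mul_iff.mp hu).1⟩, heq x y ⟨hxk.trans hkl, (IsUnit.mul_iff.mp hu).1⟩, h1] at h2
    rw [map_pow, map_pow] at h2
    exact ((IsUnit.mul_iff.mp hu).1.pow n).mul_left_eq_zero.mp h2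

end AtPrime

end Groth.L20.Stage
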