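import Groth.Agent.L20.RG.FlatPtsHensel

/-!
# Localised base changes and flatness
-/

set_option autoImplicit false
set_option linter.style.haveILetI false
set_option backward.isDefEq.respectTransparency.types false
universe u

open TensorProduct

noncomputable section

namespace Groth.L20.Stage

variable {A S : Type u} [CommRing A] [CommRing S] [Algebra A S] {N : Type u} [AddCommGroup N] [Module S N]

set_option maxHeartbeats 800000 in
/-- Base change commutes with localising. -/
theorem exists_equiv_loc (T : Submonoid S) (A' : Type u) [CommRing A'] [Algebra A A'] {D' W : Type u} [CommRing D']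
    [Algebra S D'] [Algebra A' D'] [Algebra A D'] [IsScalarTower A A' D'] [IsScalarTower A S D']
    [Algebra.IsPushout A A' S D'] [AddCommGroup W] [Module D' W] [Module S W] [IsScalarTower S D' W]
    [Module A' W] [IsScalarTower A' D' W] (f : N →ₗ[S] W) (hf : IsBaseChange D' f) :
    Nonempty (A' ⊗[A] (Localization T ⊗[S] N) ≃ₗ[A']
      LocalizedModule (Algebra.algebraMapSubmonoid D' T) W) := by
  let T' := Algebra.algebraMapSubmonoid D' T
  let C := Localization T
  let C' := Localization T'
  have hu : ∀ t : T, IsUnit (algebraMap S C' t) := fun t => by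
    rw [IsScalarTower.algebraMap_apply S D' C']
    exact IsLocalization.map_units C' (⟨algebraMap S D' t, t, t.2, rfl⟩ : T')
  letI : Algebra C C' := (IsLocalization.lift (M := T) (S := C) (g := algebraMap S C') hu).toAlgebra
  haveI : IsScalarTower S C C' := IsScalarTower.of_algebraMap_eq fun x => (IsLocalization.lift_eq (S := C) hu x).symm
  haveI hSC : Algebra.IsPushout S C D' C' := (Algebra.isPushout_of_isLocalization T C D' C').symm
  haveI : IsScalarTower A C C' := IsScalarTower.of_algebraMap_eq fun a => by
    rw [IsScalarTower.algebraMap_apply A S C, ← IsScalarTower.algebraMap_apply S C C',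
      IsScalarTower.algebraMap_apply S D' C', ← IsScalarTower.algebraMap_apply A S D',
      ← IsScalarTower.algebraMap_apply A D' C']
  haveI : Algebra.IsPushout A S A' D' := Algebra.IsPushout.symm inferInstance
  haveI : Algebra.IsPushout A C A' C' := (Algebra.IsPushout.comp_iff A S A' D' (T := C) (T' := C')).mpr hSC
  let L := LocalizedModule (T') W
  haveI : IsScalarTower S D' L := IsScalarTower.of_algebraMap_smul fun r x => by
    induction x using LocalizedModule.induction_on with
    | h m t => rw [LocalizedModule.smul'_mk, LocalizedModule.smul'_mk, algebraMap_smul]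
  haveI : IsScalarTower S C' L := IsScalarTower.of_algebraMap_smul fun r x => by
    rw [IsScalarTower.algebraMap_apply S D' C', algebraMap_smul, algebraMap_smul]
  letI : Module C L := Module.compHom L (algebraMap C C')
  haveI : IsScalarTower C C' L := IsScalarTower.of_algebraMap_smul fun _ _ => rfl
  haveI : IsScalarTower S C L := IsScalarTower.of_algebraMap_smul fun r x => by
    show algebraMap C C' (algebraMap S C r) • x = r • x
    rw [← IsScalarTower.algebraMap_apply, algebraMap_smul]
  letI : Module A L := Module.compHom L (algebraMap A D')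
  haveI : IsScalarTower A D' L := IsScalarTower.of_algebraMap_smul fun _ _ => rfl
  haveI : IsScalarTower A' D' L := IsScalarTower.of_algebraMap_smul fun a x => by
    induction x using LocalizedModule.induction_on with
    | h m t => rw [LocalizedModule.smul'_mk, LocalizedModule.smul'_mk, algebraMap_smul]
  haveI : IsScalarTower A' C' L := IsScalarTower.of_algebraMap_smul fun a x => by
    rw [IsScalarTower.algebraMap_apply A' D' C', algebraMap_smul, algebraMap_smul]
  haveI : IsScalarTower A A' L := IsScalarTower.of_algebraMap_smul fun a x => by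
    rw [← algebraMap_smul D' (algebraMap A A' a) x, ← IsScalarTower.algebraMap_apply, algebraMap_smul]
  haveI : IsScalarTower A C L := IsScalarTower.of_algebraMap_smul fun a x => by
    rw [IsScalarTower.algebraMap_apply A S C, algebraMap_smul, ← algebraMap_smul D' (algebraMap A S a) x,
      ← IsScalarTower.algebraMap_apply, algebraMap_smul]
  let m : W →ₗ[D'] L := LocalizedModule.mkLinearMap _ W
  have hm : IsBaseChange C' m := IsLocalizedModule.isBaseChange (T') C' m
  have hNL : IsBaseChange C' ((m.restrictScalars S) ∘ₗ f) := hf.comp hm
  have h0 : IsBaseChange C (TensorProduct.mk S C N 1) := TensorProduct.isBaseChange S N C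
  let G : C ⊗[S] N →ₗ[C] L := h0.lift ((m.restrictScalars S) ∘ₗ f)
  have hG : IsBaseChange C' G := IsBaseChange.of_comp h0 (by rw [h0.lift_comp]; exact hNL)
  exact ⟨(Groth.L20.isBaseChange_restrictScalars (R := A) (R' := A') hG).equiv⟩

/-- Flatness of a localisation is flatness at the primes missing the submonoid. -/
theorem flat_loc_iff_forall {R D W : Type u} [CommRing R] [CommRing D] [Algebra R D] [AddCommGroup W] [Module D W]
    [Module R W] [IsScalarTower R D W] (T : Submonoid D) :
    Module.Flat R (LocalizedModule T W) ↔
      ∀ (Q : Ideal D) [Q.IsPrime], Disjoint (T : Set D) Q → Module.Flat R (LocalizedModule Q.primeCompl W) := by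
  constructor
  · intro h Q _ hQ
    exact flat_localizedModule_of_le (fun t ht hq => Set.disjoint_left.mp hQ ht hq) h
  · intro h
    rw [flat_localizedModule_iff_forall]
    intro J z hz
    by_contra hne
    push Not at hne
    let a : Ideal D := LinearMap.ker (LinearMap.toSpanSingleton D (W ⊗[R] J) z)
    have hdis : Disjoint (a : Set D) T :=
      Set.disjoint_left.mpr fun t ht ht' => hne t ht' (by simpa [a] using ht)
    obtain ⟨Q, hQ, haQ, hQT⟩ := Ideal.exists_le_prime_disjoint a T hdis
    haveI := hQ
    haveI := h Q hQT.symm
    obtain ⟨t, ht, htz⟩ := exists_smul_eq_zero_of_flat (R := R) (S := D) Q.primeCompl J.subtype Subtype.val_injective z hz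
    exact ht (haQ (by simpa [a] using htz))

set_option maxHeartbeats 800000 in
/-- Flatness of the base change of a stalk is flatness at all primes below it. -/
theorem flat_baseChange_loc_iff [Module A N] [IsScalarTower A S N] (q : Ideal S) [q.IsPrime] (A' : Type u)
    [CommRing A'] [Algebra A A'] {D' W : Type u} [CommRing D']
    [Algebra S D'] [Algebra A' D'] [Algebra A D'] [IsScalarTower A A' D'] [IsScalarTower A S D']
    [Algebra.IsPushout A A' S D'] [AddCommGroup W] [Module D' W] [Module S W] [IsScalarTower S D' W]
    [Module A' W] [IsScalarTower A' D' W] (f : N →ₗ[S] W) (hf : IsBaseChange D' f) :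
    Module.Flat A' (A' ⊗[A] LocalizedModule q.primeCompl N) ↔
      ∀ (Q : Ideal D') [Q.IsPrime], Q.comap (algebraMap S D') ≤ q → Module.Flat A' (LocalizedModule Q.primeCompl W) := by
  obtain ⟨e⟩ := exists_equiv_loc (A := A) q.primeCompl A' f hf
  let eq₁ : Localization q.primeCompl ⊗[S] N ≃ₗ[A] LocalizedModule q.primeCompl N :=
    (LocalizedModule.equivTensorProduct q.primeCompl N).symm.restrictScalars A
  let e₂ := (eq₁.baseChange A A' _ _).symm.trans e
  rw [Module.Flat.equiv_iff e₂, flat_loc_iff_forall]
  constructor
  · intro h Q _ hQ
    refine h Q (Set.disjoint_left.mpr ?_)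
    rintro _ ⟨t, ht, rfl⟩ hmem
    exact ht (hQ hmem)
  · intro h Q _ hQ
    refine h Q fun s hs => ?_
    by_contra hsq
    exact Set.disjoint_left.mp hQ ⟨s, hsq, rfl⟩ hs

end Groth.L20.Stage
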