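import Groth.Agent.L20.RG.FlatPtsHensel

/-!
# Localised base changes and stage descent of flatness on a basic open
-/

set_option autoImplicit false
set_option linter.style.haveILetI false
set_option backward.isDefEq.respectTransparency.types false
universe u

open TensorProduct

noncomputable section

namespace Groth.L20.Stage

variable {A S : Type u} [CommRing A] [CommRing S] [Algebra A S] {N : Type u} [AddCommGroup N] [Module S N]

set_option maxHeartbeats 800000 in
/-- Base change commutes with localising at an element. -/
theorem exists_equiv_away (s : S) (A' : Type u) [CommRing A'] [Algebra A A'] {D' W : Type u} [CommRing D']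
    [Algebra S D'] [Algebra A' D'] [Algebra A D'] [IsScalarTower A A' D'] [IsScalarTower A S D']
    [Algebra.IsPushout A A' S D'] [AddCommGroup W] [Module D' W] [Module S W] [IsScalarTower S D' W]
    [Module A' W] [IsScalarTower A' D' W] (f : N →ₗ[S] W) (hf : IsBaseChange D' f) :
    Nonempty (A' ⊗[A] (Localization.Away s ⊗[S] N) ≃ₗ[A']
      LocalizedModule (Submonoid.powers (algebraMap S D' s)) W) := by
  let C := Localization.Away s
  let C' := Localization.Away (algebraMap S D' s)
  letI : Algebra C C' := (IsLocalization.Away.lift (S := C) (g := algebraMap S C') s (by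
    rw [IsScalarTower.algebraMap_apply S D' C']
    exact IsLocalization.Away.algebraMap_isUnit _)).toAlgebra
  haveI : IsScalarTower S C C' := IsScalarTower.of_algebraMap_eq fun x =>
    (IsLocalization.Away.lift_eq (S := C) s (g := algebraMap S C') (by
      rw [IsScalarTower.algebraMap_apply S D' C']
      exact IsLocalization.Away.algebraMap_isUnit _) x).symm
  haveI : IsLocalization (Algebra.algebraMapSubmonoid D' (Submonoid.powers s)) C' := by
    rw [show Algebra.algebraMapSubmonoid D' (Submonoid.powers s) = Submonoid.powers (algebraMap S D' s) from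
      Submonoid.map_powers _ _]
    infer_instance
  haveI hSC : Algebra.IsPushout S C D' C' := (Algebra.isPushout_of_isLocalization (Submonoid.powers s) C D' C').symm
  haveI : IsScalarTower A C C' := IsScalarTower.of_algebraMap_eq fun a => by
    rw [IsScalarTower.algebraMap_apply A S C, ← IsScalarTower.algebraMap_apply S C C',
      IsScalarTower.algebraMap_apply S D' C', ← IsScalarTower.algebraMap_apply A S D',
      ← IsScalarTower.algebraMap_apply A D' C']
  haveI : Algebra.IsPushout A S A' D' := Algebra.IsPushout.symm inferInstance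
  haveI : Algebra.IsPushout A C A' C' := (Algebra.IsPushout.comp_iff A S A' D' (T := C) (T' := C')).mpr hSC
  let L := LocalizedModule (Submonoid.powers (algebraMap S D' s)) W
  haveI : IsScalarTower S D' L := IsScalarTower.of_algebraMap_smul fun r x => by
    induction x using LocalizedModule.induction_on with
    | h m t => rw [LocalizedModule.smul'_mk, LocalizedModule.smul'_mk, algebraMap_smul]
  haveI : IsScalarTower S C' L := IsScalarTower.of_algebraMap_smul fun r x => by
    rw [IsScalarTower.algebraMap_apply S D' C', algebraMap_smul, algebraMap_smul]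
  letI : Module C L := Module.compHom L (algebraMap C C')
  haveI : IsScalarTower C C' L := IsScalarTower.of_algebraMap_smul fun _ _ => rfl
  haveI : IsScalarTower S C L := IsScalarTower.of_algebraMap_smul fun r x => by
    show algebraMap C C' (algebraMap S C r) • x = r • x
    rw [← IsScalarTower.algebraMap_apply, algebraMap_smul]
  letI : Module A L := Module.compHom L (algebraMap A D')
  haveI : IsScalarTower A D' L := IsScalarTower.of_algebraMap_smul fun _ _ => rfl
  haveI : IsScalarTower A' D' L := IsScalarTower.of_algebraMap_smul fun a x => by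
    induction x using LocalizedModule.induction_on with
    | h m t => rw [LocalizedModule.smul'_mk, LocalizedModule.smul'_mk, algebraMap_smul]
  haveI : IsScalarTower A' C' L := IsScalarTower.of_algebraMap_smul fun a x => by
    rw [IsScalarTower.algebraMap_apply A' D' C', algebraMap_smul, algebraMap_smul]
  haveI : IsScalarTower A A' L := IsScalarTower.of_algebraMap_smul fun a x => by
    rw [← algebraMap_smul D' (algebraMap A A' a) x, ← IsScalarTower.algebraMap_apply, algebraMap_smul]
  haveI : IsScalarTower A C L := IsScalarTower.of_algebraMap_smul fun a x => by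
    rw [IsScalarTower.algebraMap_apply A S C, algebraMap_smul, ← algebraMap_smul D' (algebraMap A S a) x,
      ← IsScalarTower.algebraMap_apply, algebraMap_smul]
  let m : W →ₗ[D'] L := LocalizedModule.mkLinearMap _ W
  have hm : IsBaseChange C' m := IsLocalizedModule.isBaseChange (Submonoid.powers (algebraMap S D' s)) C' m
  have hNL : IsBaseChange C' ((m.restrictScalars S) ∘ₗ f) := hf.comp hm
  have h0 : IsBaseChange C (TensorProduct.mk S C N 1) := TensorProduct.isBaseChange S N C
  let G : C ⊗[S] N →ₗ[C] L := h0.lift ((m.restrictScalars S) ∘ₗ f)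
  have hG : IsBaseChange C' G := IsBaseChange.of_comp h0 (by rw [h0.lift_comp]; exact hNL)
  exact ⟨(Groth.L20.isBaseChange_restrictScalars (R := A) (R' := A') hG).equiv⟩

attribute [local instance] Algebra.TensorProduct.rightAlgebra

set_option maxHeartbeats 800000 in
/-- Flatness on a basic open over a colimit descends to a stage. -/
theorem exists_flat_stage_away [Algebra.FinitePresentation A S] [Module.FinitePresentation S N] (s : S)
    {ι : Type u} [Preorder ι] {G : ι → Type u} [∀ i, CommRing (G i)] [∀ i, Algebra A (G i)]
    (g : ∀ i j, i ≤ j → G i →+* G j) (hgA : ∀ i j (h : i ≤ j), (g i j h).comp (algebraMap A (G i)) = algebraMap A (G j))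
    (A' : Type u) [CommRing A'] [Algebra A A'] [∀ i, Algebra (G i) A'] [∀ i, IsScalarTower A (G i) A']
    (hcolim : FlatCA.IsDirectedColimitRing G g A') {D' W : Type u} [CommRing D'] [Algebra S D'] [Algebra A' D']
    [Algebra A D'] [IsScalarTower A A' D'] [IsScalarTower A S D'] [Algebra.IsPushout A A' S D'] [AddCommGroup W]
    [Module D' W] [Module S W] [IsScalarTower S D' W] [Module A' W] [IsScalarTower A' D' W]
    (f : N →ₗ[S] W) (hf : IsBaseChange D' f)
    (h : ∀ (Q : Ideal D') [Q.IsPrime], algebraMap S D' s ∉ Q → Module.Flat A' (LocalizedModule Q.primeCompl W)) :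
    ∃ j, ∀ k, j ≤ k → ∀ (E V : Type u) [CommRing E] [Algebra S E] [Algebra (G k) E] [Algebra A E]
      [IsScalarTower A (G k) E] [IsScalarTower A S E] [Algebra.IsPushout A (G k) S E] [AddCommGroup V] [Module E V]
      [Module S V] [IsScalarTower S E V] [Module (G k) V] [IsScalarTower (G k) E V] (f : N →ₗ[S] V), IsBaseChange E f →
      ∀ (Q : Ideal E) [Q.IsPrime], algebraMap S E s ∉ Q → Module.Flat (G k) (LocalizedModule Q.primeCompl V) := by
  let C := Localization.Away s
  haveI : Algebra.FinitePresentation A C := Algebra.FinitePresentation.trans A S C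
  let Ns := C ⊗[S] N
  haveI : Module.FinitePresentation C Ns := inferInstance
  haveI : IsScalarTower A C Ns := TensorProduct.isScalarTower_left
  obtain ⟨e₀⟩ := exists_equiv_away (A := A) s A' f hf
  haveI : Module.Flat A' (LocalizedModule (Submonoid.powers (algebraMap S D' s)) W) :=
    (Groth.L20.RG.flat_away_iff _).mpr fun Q _ hQ => h Q hQ
  obtain ⟨d, n, R, hRn, K, ⟨e⟩⟩ := Groth.L07.FlatDescent.exists_model A (B₀ := C) Ns
  haveI : IsNoetherianRing R := hRn
  haveI : ∀ i, IsScalarTower R (G i) A' := fun i => IsScalarTower.of_algebraMap_eq fun r => by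
    show algebraMap A A' (r : A) = algebraMap (G i) A' (algebraMap A (G i) (r : A))
    rw [← IsScalarTower.algebraMap_apply A (G i) A']
  obtain ⟨eA⟩ := Groth.L07.FlatDescent.exists_modelEquiv K e A'
  haveI : Module.Flat A' (Groth.L07.FlatDescent.MC A' K) :=
    Module.Flat.of_linearEquiv (eA.symm.trans e₀)
  obtain ⟨j, hj⟩ := Groth.L07.FlatDescent.exists_flat_stage K (G := G) (g := g)
    (fun i k hik => by
      exact RingHom.ext fun r => RingHom.congr_fun (hgA i k hik) (r : A)) hcolim
  haveI := hj
  refine ⟨j, fun k hjk E V _ _ _ _ _ _ _ _ _ _ _ _ _ fV hfV Q _ hQ => ?_⟩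
  obtain ⟨e₁⟩ := exists_equiv_away (A := A) s (G k) fV hfV
  obtain ⟨ej⟩ := Groth.L07.FlatDescent.exists_modelEquiv K e (G k)
  letI : Algebra (G j) (G k) := (g j k hjk).toAlgebra
  haveI : IsScalarTower R (G j) (G k) := IsScalarTower.of_algebraMap_eq fun r =>
    (RingHom.congr_fun (hgA j k hjk) (r : A)).symm
  haveI : Module.Flat (G k) (Groth.L07.FlatDescent.MC (G k) K) :=
    Groth.L07.FlatDescent.flat_MC_of_flat K (A := G j)
  haveI : Module.Flat (G k) (LocalizedModule (Submonoid.powers (algebraMap S E s)) V) :=
    Module.Flat.of_linearEquiv (e₁.symm.trans ej)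
  exact (Groth.L20.RG.flat_away_iff _).mp this Q hQ

end Groth.L20.Stage
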