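import Groth.Agent.L20.Stage.Tensor
import Groth.Agent.L20.RG.Transfer
import Groth.Agent.L20.FlatLocusOpen
import Groth.Agent.L20.RG.PureDescent

/-!
# Flatness along a fibre descends to a stage
-/

set_option autoImplicit false
set_option linter.style.haveILetI false
set_option backward.isDefEq.respectTransparency.types false
universe u

open TensorProduct

noncomputable section

namespace Groth.L20.Stage

attribute [local instance] Algebra.TensorProduct.rightAlgebra

set_option maxHeartbeats 1000000 in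
/-- Flatness at the primes over a point of a directed colimit descends to a stage. -/
theorem exists_fibre_flat_stage {R : Type u} [CommRing R] {ι : Type u} [Preorder ι] {G : ι → Type u}
    [∀ i, CommRing (G i)] [∀ i, Algebra R (G i)] (g : ∀ i j, i ≤ j → G i →+* G j)
    (hgR : ∀ i j (h : i ≤ j), (g i j h).comp (algebraMap R (G i)) = algebraMap R (G j))
    {A : Type u} [CommRing A] [Algebra R A] [∀ i, Algebra (G i) A] [∀ i, IsScalarTower R (G i) A]
    (hcolim : FlatCA.IsDirectedColimitRing G g A) (S₀ : Type u) [CommRing S₀] [Algebra R S₀]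
    [Algebra.FinitePresentation R S₀] (M₀ : Type u) [AddCommGroup M₀] [Module S₀ M₀]
    [Module.FinitePresentation S₀ M₀] (p : Ideal A) [p.IsPrime]
    (h : ∀ (Q : Ideal (S₀ ⊗[R] A)) [Q.IsPrime], Q.comap (algebraMap A (S₀ ⊗[R] A)) = p →
      Module.Flat A (LocalizedModule Q.primeCompl ((S₀ ⊗[R] A) ⊗[S₀] M₀))) :
    ∃ j, ∀ (Q : Ideal (S₀ ⊗[R] G j)) [Q.IsPrime],
      Q.comap (algebraMap (G j) (S₀ ⊗[R] G j)) = p.comap (algebraMap (G j) A) →
      Module.Flat (G j) (LocalizedModule Q.primeCompl ((S₀ ⊗[R] G j) ⊗[S₀] M₀)) := by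
  classical
  let D' := S₀ ⊗[R] A
  haveI : Algebra.IsPushout R A S₀ D' := Algebra.IsPushout.symm inferInstance
  haveI : Algebra.FinitePresentation A D' :=
    Algebra.FinitePresentation.equiv (Algebra.IsPushout.equiv R A S₀ D')
  haveI : IsScalarTower A D' (D' ⊗[S₀] M₀) := TensorProduct.isScalarTower_left
  have hz : ∀ Q : {Q : PrimeSpectrum D' // Q.asIdeal.comap (algebraMap A D') = p}, ∃ z : D', z ∉ Q.1.asIdeal ∧
      ∀ (P : Ideal D') [P.IsPrime], z ∉ P → Module.Flat A (LocalizedModule P.primeCompl (D' ⊗[S₀] M₀)) := fun Q => by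
    haveI : Module.Flat A (LocalizedModule Q.1.asIdeal.primeCompl (D' ⊗[S₀] M₀)) := h Q.1.asIdeal Q.2
    obtain ⟨z, hz, hflat⟩ := Groth.L20.exists_flat_away (R := A) (M := D' ⊗[S₀] M₀) Q.1.asIdeal.primeCompl
    exact ⟨z, hz, (Groth.L20.RG.flat_away_iff _).mp hflat⟩
  choose z hz hflat using hz
  let J := p.map (algebraMap A D') ⊔ Ideal.span (Set.range z)
  obtain ⟨s, hsp, hsJ⟩ : ∃ s ∉ p, algebraMap A D' s ∈ J := by
    by_contra! hne
    have hdis : Disjoint (J : Set D') (Algebra.algebraMapSubmonoid D' p.primeCompl : Set D') := by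
      rw [Set.disjoint_left]
      rintro _ hJ ⟨s, hs, rfl⟩
      exact hne s hs hJ
    obtain ⟨Q, hQ, hJQ, hQT⟩ := Ideal.exists_le_prime_disjoint _ _ hdis
    haveI := hQ
    have hQp : Q.comap (algebraMap A D') = p :=
      le_antisymm (fun a ha => by
        by_contra hap
        exact Set.disjoint_left.1 hQT ha ⟨a, hap, rfl⟩) (Ideal.map_le_iff_le_comap.mp (le_sup_left.trans hJQ))
    exact hz ⟨⟨Q, hQ⟩, hQp⟩ (hJQ (Ideal.mem_sup_right (Ideal.subset_span ⟨_, rfl⟩)))
  obtain ⟨a, ha, b, hb, hab⟩ := Submodule.mem_sup.mp hsJ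
  obtain ⟨t, htsub, hbt⟩ := Submodule.mem_span_finite_of_mem_span hb
  choose q hq using fun x : t => htsub x.2
  obtain ⟨n, ⟨en⟩⟩ := Finite.exists_equiv_fin t
  obtain ⟨i₀, hi₀⟩ := exists_tensor_lift g hgR hcolim S₀ (fun k : Fin n => z (q (en.symm k)))
  choose z₀ hz₀ using hi₀
  have hlim : ∀ k, tmap S₀ (toLim (R := R) (R' := A) i₀) (z₀ k) = z (q (en.symm k)) := fun k => hz₀ k
  have hst : ∀ k : Fin n, ∃ j, ∃ hj : i₀ ≤ j, ∀ l (hl : j ≤ l) (Q : Ideal (S₀ ⊗[R] G l)) [Q.IsPrime],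
      tmap S₀ (trans (R := R) g hgR i₀ l (hj.trans hl)) (z₀ k) ∉ Q →
      Module.Flat (G l) (LocalizedModule Q.primeCompl ((S₀ ⊗[R] G l) ⊗[S₀] M₀)) := fun k =>
    exists_flat_stage_tensor g hgR hcolim S₀ M₀ i₀ (z₀ k) fun Q _ hQ =>
      hflat (q (en.symm k)) Q (by rw [← hlim k]; exact hQ)
  choose jf hjf hflatk using hst
  obtain ⟨hdir, hne, -, -, hA, -, -⟩ := hcolim
  haveI := hdir
  haveI := hne
  obtain ⟨m, hm⟩ := Finset.exists_le (insert i₀ (Finset.univ.image jf))
  have h0m : i₀ ≤ m := hm _ (Finset.mem_insert_self _ _)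
  refine ⟨m, fun Q _ hQ => ?_⟩
  -- lift the prime to the colimit
  let D := S₀ ⊗[R] G m
  letI : Algebra D D' := (tmap S₀ (IsScalarTower.toAlgHom R (G m) A)).toRingHom.toAlgebra
  letI : Algebra (G m) D' := ((algebraMap A D').comp (algebraMap (G m) A)).toAlgebra
  haveI : IsScalarTower (G m) A D' := IsScalarTower.of_algebraMap_eq' rfl
  obtain ⟨hs1, hs2, hp⟩ := isPushout_tmap (R := R) S₀ (C := G m) (C' := A)
  haveI := hs1
  haveI := hs2
  haveI := hp
  let pm := p.comap (algebraMap (G m) A)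
  haveI : Q.LiesOver pm := ⟨hQ.symm⟩
  haveI : p.LiesOver pm := ⟨rfl⟩
  obtain ⟨P, hP, hPQ, hPp⟩ := Groth.L20.RG.exists_prime_tensor (A := G m) (A' := A) (p := pm) (p' := p) (A₂ := D) Q
  haveI := hP
  haveI : Algebra.IsPushout (G m) D A D' := Algebra.IsPushout.symm inferInstance
  let e : D ⊗[G m] A ≃ₐ[D] D' := Algebra.IsPushout.equiv (G m) D A D'
  let P' : Ideal D' := P.comap e.symm.toRingHom
  haveI : P'.IsPrime := Ideal.IsPrime.comap _
  have hP'p : P'.comap (algebraMap A D') = p := by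
    rw [← hPp]
    ext x
    show e.symm (algebraMap A D' x) ∈ P ↔ (1 : D) ⊗ₜ[G m] x ∈ P
    rw [show algebraMap A D' x = e ((1 : D) ⊗ₜ[G m] x) by
      rw [Algebra.IsPushout.equiv_tmul, map_one, one_mul], AlgEquiv.symm_apply_apply]
  have hP'Q : P'.comap (algebraMap D D') = Q := by
    rw [← hPQ]
    ext x
    show e.symm (algebraMap D D' x) ∈ P ↔ x ⊗ₜ[G m] (1 : A) ∈ P
    rw [show algebraMap D D' x = e (x ⊗ₜ[G m] (1 : A)) by
      rw [Algebra.IsPushout.equiv_tmul, map_one, mul_one], AlgEquiv.symm_apply_apply]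
  obtain ⟨k, hk⟩ : ∃ k, z (q (en.symm k)) ∉ P' := by
    by_contra! hall
    have h1 : algebraMap A D' s ∈ P' := by
      rw [← hab]
      refine add_mem ((Ideal.map_le_iff_le_comap.mpr (le_of_eq hP'p.symm)) ha) ((Submodule.span_le.mpr ?_) hbt)
      intro x hx
      have := hall (en ⟨x, hx⟩)
      rw [Equiv.symm_apply_apply, hq] at this
      exact this
    exact hsp (hP'p ▸ (h1 : s ∈ P'.comap (algebraMap A D')))
  have hjm : jf k ≤ m := hm _ (Finset.mem_insert_of_mem (Finset.mem_image_of_mem _ (Finset.mem_univ _)))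
  refine hflatk k m hjm Q fun hmem => hk ?_
  rw [← hP'Q, Ideal.mem_comap] at hmem
  rw [← hlim k]
  have key : ∀ w : S₀ ⊗[R] G i₀, algebraMap D D' (tmap S₀ (trans (R := R) g hgR i₀ m ((hjf k).trans hjm)) w) =
      tmap S₀ (toLim (R := R) (R' := A) i₀) w := fun w => by
    induction w using TensorProduct.induction_on with
    | zero => simp
    | tmul x c => exact congrArg (x ⊗ₜ[R] ·) (RingHom.congr_fun (hA i₀ m ((hjf k).trans hjm)) c)
    | add x y hx hy => simp only [map_add, hx, hy]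
  rwa [key] at hmem

end Groth.L20.Stage
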