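import Groth.Prelude.Def_FlatCA
import Mathlib.RingTheory.Extension.Presentation.Core
import Mathlib.RingTheory.FinitePresentation
import Mathlib.Algebra.Module.FinitePresentation
import Mathlib.RingTheory.IsTensorProduct

/-!
# Models at a stage of a directed colimit

A finitely presented algebra and a finitely presented module over a directed colimit of rings are defined at a stage.
-/

set_option autoImplicit false
set_option linter.style.haveILetI false
set_option backward.isDefEq.respectTransparency.types false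
universe u

open TensorProduct

noncomputable section

namespace Groth.L20.Stage

/-- Restriction of a quotient of a free module along a ring map. -/
theorem exists_quotient_equiv {B₁ B : Type u} [CommRing B₁] [CommRing B] [Algebra B₁ B] {n m : ℕ}
    (v₁ : Fin m → Fin n → B₁) (v : Fin m → Fin n → B) (hv : ∀ j i, algebraMap B₁ B (v₁ j i) = v j i) :
    Nonempty (((Fin n → B) ⧸ Submodule.span B (Set.range v)) ≃ₗ[B]
      B ⊗[B₁] ((Fin n → B₁) ⧸ Submodule.span B₁ (Set.range v₁))) := by
  classical
  let K₁ := Submodule.span B₁ (Set.range v₁)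
  let K := Submodule.span B (Set.range v)
  let c : (Fin n → B₁) →ₗ[B₁] (Fin n → B) :=
    { toFun := fun x i => algebraMap B₁ B (x i)
      map_add' := fun x y => funext fun i => map_add _ _ _
      map_smul' := fun r x => funext fun i => by simp [Algebra.smul_def] }
  have hc : K₁ ≤ LinearMap.ker ((K.mkQ.restrictScalars B₁) ∘ₗ c) := by
    refine Submodule.span_le.2 ?_
    rintro _ ⟨j, rfl⟩
    refine LinearMap.mem_ker.2 ((Submodule.Quotient.mk_eq_zero _).2 ?_)
    rw [show c (v₁ j) = v j from funext fun i => hv j i]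
    exact Submodule.subset_span ⟨j, rfl⟩
  let fwd : B ⊗[B₁] ((Fin n → B₁) ⧸ K₁) →ₗ[B] (Fin n → B) ⧸ K :=
    (K₁.liftQ ((K.mkQ.restrictScalars B₁) ∘ₗ c) hc).liftBaseChange B
  let bwd₀ : (Fin n → B) →ₗ[B] B ⊗[B₁] ((Fin n → B₁) ⧸ K₁) :=
    (Pi.basisFun B (Fin n)).constr B fun i => 1 ⊗ₜ K₁.mkQ (Pi.single i 1)
  have hb : ∀ x : Fin n → B₁, bwd₀ (c x) = 1 ⊗ₜ K₁.mkQ x := by
    intro x
    conv_rhs => rw [show x = ∑ i, x i • (Pi.single i (1 : B₁) : Fin n → B₁) from by
      funext k; simp [Finset.sum_apply, Pi.single_apply]]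
    rw [show c x = ∑ i, algebraMap B₁ B (x i) • (Pi.basisFun B (Fin n)) i from by
      funext k; simp [c, Finset.sum_apply, Pi.single_apply, Algebra.algebraMap_eq_smul_one]]
    rw [map_sum, map_sum, TensorProduct.tmul_sum]
    refine Finset.sum_congr rfl fun i _ => ?_
    rw [map_smul, map_smul, Module.Basis.constr_basis, TensorProduct.tmul_smul, algebraMap_smul]
  have hK : K ≤ LinearMap.ker bwd₀ := by
    refine Submodule.span_le.2 ?_
    rintro _ ⟨j, rfl⟩
    refine LinearMap.mem_ker.2 ?_
    rw [show v j = c (v₁ j) from funext fun i => (hv j i).symm, hb,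
      show K₁.mkQ (v₁ j) = 0 from (Submodule.Quotient.mk_eq_zero _).2 (Submodule.subset_span ⟨j, rfl⟩),
      TensorProduct.tmul_zero]
  refine ⟨LinearEquiv.ofLinear (K.liftQ bwd₀ hK) fwd ?_ ?_⟩
  · refine TensorProduct.AlgebraTensorModule.ext fun b z => ?_
    obtain ⟨x, rfl⟩ := Submodule.Quotient.mk_surjective _ z
    have hb' : K.liftQ bwd₀ hK (b • K.mkQ (c x)) = b ⊗ₜ[B₁] K₁.mkQ x := by
      rw [map_smul]
      show b • bwd₀ (c x) = _
      rw [hb, TensorProduct.smul_tmul', smul_eq_mul, mul_one]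
    exact hb'
  · refine Submodule.linearMap_qext _ ((Pi.basisFun B (Fin n)).ext fun i => ?_)
    show fwd (bwd₀ ((Pi.basisFun B (Fin n)) i)) = K.mkQ ((Pi.basisFun B (Fin n)) i)
    rw [Module.Basis.constr_basis]
    show (1 : B) • K.mkQ (c (Pi.single i 1)) = _
    rw [one_smul]
    refine congrArg _ (funext fun k => ?_)
    simp [c, Pi.single_apply]

/-- Finitely many elements of a directed colimit come from one stage. -/
theorem exists_range_stage {ι : Type u} [Preorder ι] {G : ι → Type u} [∀ i, CommRing (G i)]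
    {g : ∀ i j, i ≤ j → G i →+* G j} {A : Type u} [CommRing A] [∀ i, Algebra (G i) A]
    (hcolim : FlatCA.IsDirectedColimitRing G g A) (s : Set A) (hs : s.Finite) :
    ∃ i, s ⊆ Set.range (algebraMap (G i) A) := by
  classical
  obtain ⟨hdir, hne, -, -, hA, hex, -⟩ := hcolim
  haveI := hdir
  haveI := hne
  choose i₀ x hx using hex
  obtain ⟨i, hi⟩ := Finset.exists_le (hs.toFinset.image i₀)
  refine ⟨i, fun a ha => ?_⟩
  have hle : i₀ a ≤ i := hi _ (Finset.mem_image_of_mem _ (hs.mem_toFinset.mpr ha))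
  exact ⟨g _ _ hle (x a), (RingHom.congr_fun (hA _ _ hle) (x a)).trans (hx a)⟩

/-- **Models at a stage.** -/
theorem exists_stage_model {ι : Type u} [Preorder ι] (G : ι → Type u) [∀ i, CommRing (G i)]
    (g : ∀ i j, i ≤ j → G i →+* G j) {A : Type u} [CommRing A] [∀ i, Algebra (G i) A]
    (hcolim : FlatCA.IsDirectedColimitRing G g A) {B : Type u} [CommRing B] [Algebra A B] [Algebra.FinitePresentation A B]
    (N : Type u) [AddCommGroup N] [Module B N] [Module.FinitePresentation B N] :
    ∃ (i : ι) (Bi Ni : Type u) (_ : CommRing Bi) (_ : Algebra (G i) Bi) (_ : Algebra Bi B) (_ : Algebra (G i) B)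
      (_ : IsScalarTower (G i) A B) (_ : IsScalarTower (G i) Bi B)
      (_ : AddCommGroup Ni) (_ : Module Bi Ni) (_ : Module (G i) Ni) (_ : IsScalarTower (G i) Bi Ni)
      (_ : Module Bi N) (_ : IsScalarTower Bi B N) (f : Ni →ₗ[Bi] N),
      Algebra.FinitePresentation (G i) Bi ∧ Algebra.IsPushout (G i) Bi A B ∧ Module.FinitePresentation Bi Ni ∧
      IsBaseChange B f := by
  classical
  let P := Algebra.Presentation.ofFinitePresentation A B
  obtain ⟨n, K, eM, hK⟩ := Module.FinitePresentation.exists_fin B N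
  obtain ⟨m, v, hv⟩ := Submodule.fg_iff_exists_fin_generating_family.1 hK
  have hq : ∀ j k, ∃ q, MvPolynomial.aeval P.val q = v j k := fun j k =>
    ⟨P.σ (v j k), P.aeval_val_σ (v j k)⟩
  choose q hq using hq
  obtain ⟨i, hi⟩ := exists_range_stage hcolim (P.coeffs ∪ ⋃ j, ⋃ k, ((q j k).coeffs : Set A))
    (P.finite_coeffs.union (Set.finite_iUnion fun j => Set.finite_iUnion fun k => (q j k).coeffs.finite_toSet))
  letI : Algebra (G i) B := ((algebraMap A B).comp (algebraMap (G i) A)).toAlgebra
  haveI : IsScalarTower (G i) A B := IsScalarTower.of_algebraMap_eq' rfl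
  haveI : P.HasCoeffs (G i) := ⟨fun x hx => hi (Or.inl hx)⟩
  let Bi := P.ModelOfHasCoeffs (G i)
  let e : A ⊗[G i] Bi ≃ₐ[A] B := P.tensorModelOfHasCoeffsEquiv (G i)
  letI algB : Algebra Bi B := (e.toAlgHom.toRingHom.comp
    (Algebra.TensorProduct.includeRight : Bi →ₐ[G i] A ⊗[G i] Bi).toRingHom).toAlgebra
  haveI : IsScalarTower (G i) Bi B := IsScalarTower.of_algebraMap_eq (R := G i) (S := Bi) (A := B) fun r => by
    show algebraMap (G i) B r = e (Algebra.TensorProduct.includeRight (algebraMap (G i) Bi r))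
    rw [AlgHom.commutes, IsScalarTower.algebraMap_apply (G i) A (A ⊗[G i] Bi), AlgEquiv.commutes,
      ← IsScalarTower.algebraMap_apply]
  have hlift : ∀ j k, ∃ z : Bi, algebraMap Bi B z = v j k := fun j k => by
    obtain ⟨q', hq'⟩ : q j k ∈ Set.range (MvPolynomial.map (algebraMap (G i) A)) := by
      rw [MvPolynomial.mem_range_map_iff_coeffs_subset]
      exact fun x hx => hi (Or.inr (Set.mem_iUnion.mpr ⟨j, Set.mem_iUnion.mpr ⟨k, hx⟩⟩))
    refine ⟨Ideal.Quotient.mk _ q', ?_⟩
    show e ((1 : A) ⊗ₜ[G i] Ideal.Quotient.mk _ q') = v j k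
    rw [← hq j k, ← hq', MvPolynomial.aeval_map_algebraMap]
    show algebraMap A B 1 * _ = _
    rw [map_one, one_mul]; rfl
  choose v₁ hv₁ using hlift
  obtain ⟨eq⟩ := exists_quotient_equiv v₁ v hv₁
  let Ni := (Fin n → Bi) ⧸ Submodule.span Bi (Set.range v₁)
  haveI : Module.FinitePresentation Bi Ni :=
    Module.finitePresentation_of_surjective (Submodule.span Bi (Set.range v₁)).mkQ (Submodule.mkQ_surjective _) (by
      rw [Submodule.ker_mkQ]
      exact Submodule.fg_span (Set.finite_range v₁))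
  letI : Module Bi N := Module.compHom N (algebraMap Bi B)
  haveI : IsScalarTower Bi B N := IsScalarTower.of_algebraMap_smul fun _ _ => rfl
  let E : B ⊗[Bi] Ni ≃ₗ[B] N := (eM.trans ((Submodule.quotEquivOfEq _ _ hv.symm).trans eq)).symm
  refine ⟨i, Bi, Ni, inferInstance, inferInstance, algB, inferInstance, inferInstance, inferInstance, inferInstance,
    inferInstance, inferInstance, inferInstance, inferInstance, inferInstance,
    (E.toLinearMap.restrictScalars Bi).comp (TensorProduct.mk Bi B Ni 1), inferInstance, ?_, inferInstance, ?_⟩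
  · haveI : Algebra.IsPushout (G i) A Bi B := ⟨IsBaseChange.of_equiv e.toLinearEquiv fun x => rfl⟩
    exact Algebra.IsPushout.symm inferInstance
  · exact IsBaseChange.of_equiv E fun x => rfl

end Groth.L20.Stage
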